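import Mathlib

/-!
# The action on the blocks of an invariant set of points

If generators of a group permute the points `f x` compatibly with a map `b` onto block labels,
then the whole group acts on the labels.
-/

set_option autoImplicit false

namespace CfsgLib.CharsMore.HeSp44

variable {G A X ι : Type*} [Group G] [Finite X]

theorem exists_block_hom (φ : G →* Equiv.Perm A) {f : X → A} (hf : Function.Injective f) (b : X → ι)
    (hb : Function.Surjective b) {S : Set G} (hS : Subgroup.closure S = ⊤)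
    (h : ∀ s ∈ S, ∃ τ : Equiv.Perm ι, ∀ x, ∃ z, φ s (f x) = f z ∧ b z = τ (b x)) :
    ∃ σ : G →* Equiv.Perm ι, ∀ (g : G) (τ : Equiv.Perm ι),
      (∀ x, ∃ z, φ g (f x) = f z ∧ b z = τ (b x)) → σ g = τ := by
  classical
  have all : ∀ g : G, ∃ τ : Equiv.Perm ι, ∀ x, ∃ z, φ g (f x) = f z ∧ b z = τ (b x) := by
    intro g
    have hg : g ∈ Subgroup.closure S := by rw [hS]; trivial
    induction hg using Subgroup.closure_induction with
    | mem s hs => exact h s hs
    | one => exact ⟨1, fun x => ⟨x, by simp, rfl⟩⟩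
    | mul p q _ _ hp hq =>
      obtain ⟨τ, hτ⟩ := hp
      obtain ⟨τ', hτ'⟩ := hq
      refine ⟨τ * τ', fun x => ?_⟩
      obtain ⟨z, e1, e2⟩ := hτ' x
      obtain ⟨w, e3, e4⟩ := hτ z
      exact ⟨w, by rw [map_mul, Equiv.Perm.mul_apply, e1, e3], by rw [e4, e2, Equiv.Perm.mul_apply]⟩
    | inv p _ hp =>
      obtain ⟨τ, hτ⟩ := hp
      refine ⟨τ⁻¹, fun x => ?_⟩
      have hsurj : Function.Surjective fun y => (hτ y).choose := by
        refine Finite.injective_iff_surjective.1 fun y y' e => hf ((φ p).injective ?_)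
        rw [(hτ y).choose_spec.1, (hτ y').choose_spec.1]
        exact congrArg f e
      obtain ⟨z, hz⟩ := hsurj x
      obtain ⟨e1, e2⟩ := (hτ z).choose_spec
      rw [show (hτ z).choose = x from hz] at e1 e2
      refine ⟨z, ?_, ?_⟩
      · rw [map_inv, Equiv.Perm.inv_eq_iff_eq, e1]
      · rw [eq_comm, Equiv.Perm.inv_eq_iff_eq, e2]
  have uniq : ∀ (g : G) (τ τ' : Equiv.Perm ι), (∀ x, ∃ z, φ g (f x) = f z ∧ b z = τ (b x)) →
      (∀ x, ∃ z, φ g (f x) = f z ∧ b z = τ' (b x)) → τ = τ' := by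
    intro g τ τ' hτ hτ'
    refine Equiv.ext fun i => ?_
    obtain ⟨x, rfl⟩ := hb i
    obtain ⟨z, e1, e2⟩ := hτ x
    obtain ⟨z', e1', e2'⟩ := hτ' x
    rw [← e2, ← e2', hf (e1.symm.trans e1')]
  refine ⟨MonoidHom.mk' (fun g => (all g).choose) fun p q => uniq (p * q) _ _ (all (p * q)).choose_spec ?_,
    fun g τ hτ => uniq g _ _ (all g).choose_spec hτ⟩
  intro x
  obtain ⟨z, e1, e2⟩ := (all q).choose_spec x
  obtain ⟨w, e3, e4⟩ := (all p).choose_spec z
  exact ⟨w, by rw [map_mul, Equiv.Perm.mul_apply, e1, e3], by rw [e4, e2, Equiv.Perm.mul_apply]⟩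

end CfsgLib.CharsMore.HeSp44
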