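import Cfsg.Agent.Lib.CharsMore.HeSp44.Model
import Cfsg.Agent.Lib.Classical.SympOrder
import Cfsg.Agent.S0765

/-!
# A group acting on the 85 points as the symplectic group extended by the field automorphism

If seven elements of a group of order at most 1958400 act as the tabulated permutations, then the
group has a subgroup of index two isomorphic to the symplectic group.
-/

set_option autoImplicit false
set_option maxRecDepth 100000

namespace CfsgLib.CharsMore.HeSp44

open Matrix

/-- a tabulated permutation -/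
def tab (k : Fin 7) (i : Fin 85) : Fin 85 :=
  ⟨(Data.perms.getD k.val []).getD i.val 0 % 85, Nat.mod_lt _ (by norm_num)⟩

/-- a tabulated matrix -/
def gmat (k : Fin 7) : Matrix V V K :=
  Matrix.of fun i j => el ((Data.mats.getD k.val []).getD (4 * pos i + pos j) 0)

/-- the image of a point under the semilinear map -/
def semiImg (k : Fin 7) (i : Fin 85) : Fin 85 :=
  ptOf (gmat k *ᵥ (if Data.semi.getD k.val 0 = 1 then rep (ptOf (frobV (rep i))) else rep i))

theorem gmat_mem : ∀ k : Fin 7, gmat k * Matrix.J (Fin 2) K * (gmat k).transpose = Matrix.J (Fin 2) K := by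
  decide +kernel

theorem semi_check : ∀ k : Fin 7, ∀ i : Fin 85, semiImg k i = tab k i := by decide +kernel

/-- a transvection at a point -/
def tmat (i : Fin 85) (n : ℕ) : Matrix V V K := Cfsg.sympTransvection 2 (rep i) (el n)

theorem tmat_mem : ∀ n : Fin 4, tmat 0 n * Matrix.J (Fin 2) K * (tmat 0 n).transpose = Matrix.J (Fin 2) K := by
  decide +kernel

/-- evaluation of a word in the tabulated permutations, first entry last -/
def evalT (w : List ℕ) (i : Fin 85) : Fin 85 := w.foldr (fun k x => tab ⟨k % 7, Nat.mod_lt _ (by norm_num)⟩ x) i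

theorem tv_check : ∀ n : Fin 4, n ≠ 0 → ∀ i : Fin 85,
    evalT (Data.tvWord.getD (n.val - 1) []) i = ptOf (tmat 0 n *ᵥ rep i) := by decide +kernel

/-- the predecessor of a point and the generator leading from it -/
def parK (i : Fin 85) : Fin 7 := ⟨(Data.par.getD i.val (0, 0)).1 % 7, Nat.mod_lt _ (by norm_num)⟩

/-- the predecessor of a point -/
def parPt (i : Fin 85) : Fin 85 := ⟨(Data.par.getD i.val (0, 0)).2 % 85, Nat.mod_lt _ (by norm_num)⟩

theorem tree_check : ∀ i : Fin 85, i = 0 ∨
    (Data.rank.getD (parPt i).val 0 < Data.rank.getD i.val 0 ∧ Data.semi.getD (parK i).val 0 = 0 ∧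
      ∀ n : Fin 4, ∃ n' : Fin 4, tmat i n * gmat (parK i) = gmat (parK i) * tmat (parPt i) n') := by
  decide +kernel

theorem semi_five : Data.semi.getD 5 0 = 1 := by decide +kernel

theorem transvection_smul (w : V → K) (s c : K) :
    Cfsg.sympTransvection 2 (s • w) c = Cfsg.sympTransvection 2 w (c * (s * s)) := by
  unfold Cfsg.sympTransvection
  rw [Matrix.mulVec_smul, Matrix.smul_vecMulVec, Matrix.vecMulVec_smul, smul_smul, smul_smul, mul_assoc]

theorem transvection_zero (c : K) : Cfsg.sympTransvection 2 (0 : V → K) c = 1 := by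
  simp [Cfsg.sympTransvection]

theorem card_Sp : Nat.card Sp = 979200 := by
  rw [CfsgLib.Classical.card_symplecticGroup, Nat.card_eq_fintype_card, card_K, Fintype.card_fin]
  decide

theorem exists_iso {G : Type*} [Group G] (hne : Nat.card G ≠ 0) (hle : Nat.card G ≤ 1958400)
    (σ : G →* Equiv.Perm (Fin 85)) (h : Fin 7 → G) (hσ : ∀ k i, σ (h k) i = tab k i) :
    ∃ (N : Subgroup G) (L : Type) (_ : Field L) (_ : Fintype L),
      N.Normal ∧ N.index = 2 ∧ Fintype.card L = 4 ∧ Nonempty (N ≃* Matrix.symplecticGroup (Fin 2) L) := by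
  classical
  haveI : Finite G := Nat.finite_of_card_ne_zero hne
  let M : Subgroup (Equiv.Perm (Fin 85)) := linePerm.range
  let R : Subgroup (Equiv.Perm (Fin 85)) := σ.range
  let A : Fin 7 → Sp := fun k => ⟨gmat k, SymplecticGroup.mem_iff.2 (gmat_mem k)⟩
  have hlin : ∀ k : Fin 7, Data.semi.getD k.val 0 = 0 → linePerm (A k) = σ (h k) := by
    intro k hk
    refine Equiv.ext fun i => ?_
    rw [hσ, ← semi_check, linePerm_apply, semiImg, if_neg (by omega)]
  have hword : ∀ w : List ℕ, ∃ g : G, ∀ i, σ g i = evalT w i := by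
    intro w
    induction w with
    | nil => exact ⟨1, fun i => by rw [map_one]; rfl⟩
    | cons k r ih =>
      obtain ⟨g, hg⟩ := ih
      exact ⟨h ⟨k % 7, Nat.mod_lt _ (by norm_num)⟩ * g, fun i => by
        rw [map_mul, Equiv.Perm.mul_apply, hg, hσ]; rfl⟩
  let M0 : Subgroup Sp := R.comap linePerm
  have hM0 : ∀ (k : ℕ) (i : Fin 85), Data.rank.getD i.val 0 < k → ∀ n : Fin 4,
      ∀ T : Sp, (T : Matrix V V K) = tmat i n → T ∈ M0 := by
    intro k
    induction k with
    | zero => intro i hi; omega
    | succ k ih =>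
      intro i hi n T hT
      rcases tree_check i with rfl | ⟨hr, hs, hn⟩
      · by_cases hn0 : n = 0
        · have : T = 1 := Subtype.ext (by
            rw [hT, hn0, tmat, show el ((0 : Fin 4) : ℕ) = 0 from rfl]
            simp [Cfsg.sympTransvection])
          rw [this]; exact one_mem _
        · obtain ⟨g, hg⟩ := hword (Data.tvWord.getD (n.val - 1) [])
          refine ⟨g, Equiv.ext fun j => ?_⟩
          rw [hg, tv_check n hn0 j, linePerm_apply, hT]
      · obtain ⟨n', e⟩ := hn n
        have hA : A (parK i) ∈ M0 := ⟨h (parK i), (hlin _ hs).symm⟩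
        let T' : Sp := (A (parK i))⁻¹ * T * A (parK i)
        have hT' : (T' : Matrix V V K) = tmat (parPt i) n' := by
          show ((((A (parK i))⁻¹ * T * A (parK i) : Sp)) : Matrix V V K) = _
          rw [Submonoid.coe_mul, Submonoid.coe_mul, hT, Matrix.mul_assoc, show ((A (parK i) : Sp) : Matrix V V K) =
            gmat (parK i) from rfl, e, ← Matrix.mul_assoc, show gmat (parK i) = ((A (parK i) : Sp) : Matrix V V K) from rfl,
            ← Submonoid.coe_mul, inv_mul_cancel]
          simp
        have := ih (parPt i) (by omega) n' T' hT'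
        have e2 : T = A (parK i) * T' * (A (parK i))⁻¹ := by simp [T', mul_assoc]
        rw [e2]; exact mul_mem (mul_mem hA this) (inv_mem hA)
  have htop : M0 = ⊤ := by
    rw [eq_top_iff, ← Cfsg.Agent.S0765.result (F := K) 2, Subgroup.closure_le]
    rintro T ⟨w, c, hT⟩
    by_cases hw : w = 0
    · have : T = 1 := Subtype.ext (by rw [hT, hw, transvection_zero]; rfl)
      rw [this]; exact one_mem _
    · obtain ⟨s, _, e⟩ := cover hw
      obtain ⟨n, hn⟩ := el_surj (c * (s * s))
      refine hM0 _ (ptOf w) (Nat.lt_succ_self _) n T ?_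
      rw [hT, tmat, hn, ← transvection_smul, ← e]
  have hMR : M ≤ R := by
    rintro _ ⟨g, rfl⟩
    exact (by rw [htop]; trivial : g ∈ M0)
  have hne' : M ≠ R := by
    intro e
    have h5 : σ (h 5) ∈ M := e ▸ ⟨h 5, rfl⟩
    have e5 : σ (h 5) = linePerm (A 5) * frobPerm := by
      refine Equiv.ext fun i => ?_
      rw [hσ, ← semi_check, semiImg, if_pos (show Data.semi.getD ((5 : Fin 7) : ℕ) 0 = 1 from semi_five), Equiv.Perm.mul_apply, linePerm_apply]
      rfl
    rw [e5] at h5
    exact frobPerm_notMem ((Subgroup.mul_mem_cancel_left M ⟨A 5, rfl⟩).1 h5)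
  have hM : Nat.card M = 979200 := by
    rw [show M = linePerm.range from rfl, ← Nat.card_congr (MonoidHom.ofInjective linePerm_injective).toEquiv,
      card_Sp]
  have hR : 1958400 ≤ Nat.card R := by
    obtain ⟨d, hd⟩ := Subgroup.card_dvd_of_le hMR
    rw [hM] at hd
    have hpos : 0 < Nat.card R := Nat.card_pos
    have hd1 : d ≠ 1 := fun e1 => hne' (Subgroup.eq_of_le_of_card_ge hMR (by rw [hd, hM, e1]))
    have hd0 : d ≠ 0 := fun e0 => by rw [hd, e0] at hpos; omega
    have : 2 ≤ d := by omega
    nlinarith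
  have hdiv : Nat.card R ∣ Nat.card G := Subgroup.card_range_dvd σ
  have hG : Nat.card G = 1958400 ∧ Nat.card R = 1958400 := by
    have := Nat.le_of_dvd (Nat.pos_of_ne_zero hne) hdiv
    omega
  have hinj : Function.Injective σ := by
    have hb : Function.Bijective σ.rangeRestrict :=
      (Nat.bijective_iff_surjective_and_card _).2 ⟨σ.rangeRestrict_surjective, by rw [hG.1]; exact hG.2.symm⟩
    exact fun a b e => hb.1 (Subtype.ext e)
  let eN : ↥(M.comap σ) ≃* ↥M :=
    MulEquiv.ofBijective ((σ.comp (M.comap σ).subtype).codRestrict M fun x => x.2)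
      ⟨fun a b e => Subtype.ext (hinj (congrArg Subtype.val e)),
        fun m => by
          obtain ⟨g, hg⟩ := hMR m.2
          exact ⟨⟨g, by rw [Subgroup.mem_comap, hg]; exact m.2⟩, Subtype.ext hg⟩⟩
  have hidx : (M.comap σ).index = 2 := by
    have := (M.comap σ).card_mul_index
    rw [Nat.card_congr eN.toEquiv, hM, hG.1] at this
    omega
  exact ⟨M.comap σ, K, inferInstance, fintypeK, Subgroup.normal_of_index_eq_two hidx, hidx, card_K,
    ⟨eN.trans (MonoidHom.ofInjective linePerm_injective).symm⟩⟩

end CfsgLib.CharsMore.HeSp44
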