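import Cfsg.Agent.Lib.PresCert.CosetAction
import Cfsg.Agent.Lib.Spor.HeInvol.Centralizer
import Cfsg.Agent.Lib.CharsMore.HeSp44.HeData
import Cfsg.Agent.Lib.CharsMore.HeSp44.Blocks
import Cfsg.Agent.Lib.CharsMore.HeSp44.Iso

/-!
# A subgroup of the presented Held group of the shape `Sp(4,4).2`

Seven explicit words fix a point among the 2058, so they generate a subgroup of order at most
1958400 (given the bound on the order of the presented group).  This subgroup preserves a set of
425 points and permutes 85 blocks of it as the symplectic group extended by the field automorphism.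
-/

set_option autoImplicit false

namespace CfsgLib.CharsMore.HeSp44

open CfsgLib.PresCert CfsgLib.Spor.HeInvol Cfsg.Spor

/-- the seven generating elements -/
def hgen (k : Fin 7) : Cfsg.Spor.He := CfsgLib.Spor.HeInvol.el (HeData.elts.getD k.val [])

/-- the subgroup -/
def heSub : Subgroup Cfsg.Spor.He := Subgroup.closure (Set.range hgen)

theorem root_lt : HeData.root < CfsgLib.Spor.HeInvol.data.n := by decide +kernel

theorem elts_lt : ∀ k : Fin 7, ∀ j ∈ HeData.elts.getD k.val [], j < 7 := by decide +kernel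

theorem root_fix : ∀ k : Fin 7, CfsgLib.Spor.HeInvol.data.app (HeData.elts.getD k.val []).reverse HeData.root = HeData.root := by
  decide +kernel

/-- the fixed point -/
noncomputable def rootPt : Fin CfsgLib.Spor.HeInvol.data.n := ⟨HeData.root, root_lt⟩

theorem pi_hgen (k : Fin 7) (p : Fin CfsgLib.Spor.HeInvol.data.n) :
    ((CfsgLib.Spor.HeInvol.π (hgen k) p : Fin CfsgLib.Spor.HeInvol.data.n) : ℕ) =
      CfsgLib.Spor.HeInvol.data.app (HeData.elts.getD k.val []).reverse p :=
  π_el (elts_lt k) p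

theorem heSub_fix : heSub ≤ (MulAction.stabilizer (Equiv.Perm (Fin CfsgLib.Spor.HeInvol.data.n)) rootPt).comap
    CfsgLib.Spor.HeInvol.π := by
  rw [heSub, Subgroup.closure_le]
  rintro _ ⟨k, rfl⟩
  refine Fin.ext ?_
  show ((CfsgLib.Spor.HeInvol.π (hgen k) rootPt : Fin _) : ℕ) = HeData.root
  rw [pi_hgen]
  exact root_fix k

theorem lev0_ok : CfsgLib.Spor.HeInvol.data.okOrbit lev0 = true ∧ CfsgLib.Spor.HeInvol.data.okClosed lev0 = true ∧
    lev0.len = 2058 ∧ lev0.base = 0 ∧ lev0.gens = List.range 7 ∧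
      CfsgLib.Spor.HeInvol.data.g = 7 ∧ CfsgLib.Spor.HeInvol.data.n = 2058 := by
  decide +kernel

theorem transitive (i : Fin CfsgLib.Spor.HeInvol.data.n) :
    ∃ g, CfsgLib.Spor.HeInvol.π g rootPt = i := by
  obtain ⟨h1, h2, h3, h4, h5, hg, hn⟩ := lev0_ok
  have hb : lev0.base < CfsgLib.Spor.HeInvol.data.n := by rw [h4, hn]; norm_num
  have e := PermData.ncard_orbit (PermData.interp invol_ok) lev0 h1 h2
    (fun k hk => by rw [h5] at hk; exact hg.symm ▸ List.mem_range.1 hk) _ rfl hb
  rw [h3] at e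
  let S : Set (Fin CfsgLib.Spor.HeInvol.data.n) := {j | ∃ σ ∈ Subgroup.closure
      {σ | ∃ k ∈ lev0.gens, (PermData.interp invol_ok).gen k = σ}, σ ⟨lev0.base, hb⟩ = j}
  have huniv : S = Set.univ := Set.eq_of_subset_of_ncard_le (Set.subset_univ _) (by
    rw [e, Set.ncard_univ, Nat.card_eq_fintype_card, Fintype.card_fin, hn])
  have hr : ∀ σ ∈ Subgroup.closure {σ | ∃ k ∈ lev0.gens, (PermData.interp invol_ok).gen k = σ},
      σ ∈ CfsgLib.Spor.HeInvol.π.range := by
    intro σ hσ
    refine grp_le_range ((Subgroup.closure_le _).2 ?_ hσ)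
    rintro _ ⟨k, hk, rfl⟩
    rw [h5] at hk
    exact Subgroup.subset_closure ⟨k, hg.symm ▸ List.mem_range.1 hk, rfl⟩
  obtain ⟨σ, hσ, e1⟩ := (huniv ▸ Set.mem_univ rootPt : rootPt ∈ S)
  obtain ⟨τ, hτ, e2⟩ := (huniv ▸ Set.mem_univ i : i ∈ S)
  obtain ⟨g, rfl⟩ := hr σ hσ
  obtain ⟨g', rfl⟩ := hr τ hτ
  exact ⟨g' * g⁻¹, by rw [map_mul, map_inv, Equiv.Perm.mul_apply, ← e1, Equiv.Perm.inv_def,
    Equiv.symm_apply_apply, e2]⟩

theorem card_heSub (h : Bound) : Nat.card heSub ≠ 0 ∧ Nat.card heSub ≤ 1958400 := by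
  haveI := finite_of_bound h
  refine ⟨Nat.card_pos.ne',
    (Nat.le_of_dvd Nat.card_pos (Subgroup.card_dvd_of_le heSub_fix)).trans ?_⟩
  letI : MulAction Cfsg.Spor.He (Fin CfsgLib.Spor.HeInvol.data.n) :=
    MulAction.compHom _ CfsgLib.Spor.HeInvol.π
  have hs : (MulAction.stabilizer (Equiv.Perm (Fin CfsgLib.Spor.HeInvol.data.n)) rootPt).comap
      CfsgLib.Spor.HeInvol.π = MulAction.stabilizer Cfsg.Spor.He rootPt := rfl
  rw [hs]
  have h2058 : (MulAction.stabilizer Cfsg.Spor.He rootPt).index = 2058 := by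
    rw [MulAction.index_stabilizer,
      show MulAction.orbit Cfsg.Spor.He rootPt = Set.univ from Set.eq_univ_of_forall fun i => transitive i,
      Set.ncard_univ, Nat.card_eq_fintype_card, Fintype.card_fin, lev0_ok.2.2.2.2.2.2]
  have hm := (MulAction.stabilizer Cfsg.Spor.He rootPt).card_mul_index
  have hG : Nat.card Cfsg.Spor.He ≤ 4030387200 := by
    have := h.2
    rwa [Subgroup.card_top] at this
  rw [h2058] at hm
  omega

theorem data_ok : (HeData.orbit.all fun p => Nat.blt p 2058) = true ∧ HeData.orbit.Nodup ∧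
    HeData.orbit.length = 425 ∧ (Data.blk.all fun p => Nat.blt p 85) = true ∧ Data.blk.length = 425 ∧
    (∀ i : Fin 85, Data.sec.getD i.val 0 < 425 ∧ Data.blk.getD (Data.sec.getD i.val 0) 0 = i.val) := by
  decide +kernel

/-- the check at one point of the orbit -/
noncomputable def imgChk (k x : ℕ) : Bool :=
  Nat.blt ((HeData.imgs.getD k []).getD x 425) 425 &&
    Nat.beq (CfsgLib.Spor.HeInvol.data.app (HeData.elts.getD k []).reverse (HeData.orbit.getD x 0))
      (HeData.orbit.getD ((HeData.imgs.getD k []).getD x 425) 0) &&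
    Nat.beq (Data.blk.getD ((HeData.imgs.getD k []).getD x 425) 0)
      (Nat.mod ((Data.perms.getD k []).getD (Data.blk.getD x 0) 0) 85)

theorem img_check : ((List.range 7).all fun k => (List.range 425).all (imgChk k)) = true := by
  decide +kernel

theorem tab_bijective : ∀ k : Fin 7, Function.Bijective (tab k) := by decide +kernel

theorem main (h : Bound) :
    ∃ (N : Subgroup heSub) (L : Type) (_ : Field L) (_ : Fintype L),
      N.Normal ∧ N.index = 2 ∧ Fintype.card L = 4 ∧ Nonempty (N ≃* Matrix.symplecticGroup (Fin 2) L) := by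
  classical
  obtain ⟨h1, h2, h3, h4, h5, h6⟩ := data_ok
  have hn : CfsgLib.Spor.HeInvol.data.n = 2058 := lev0_ok.2.2.2.2.2.2
  have horb : ∀ x : Fin 425, HeData.orbit.getD x.val 0 < CfsgLib.Spor.HeInvol.data.n := fun x => by
    have hx : x.val < HeData.orbit.length := by rw [h3]; exact x.2
    rw [hn, List.getD_eq_getElem _ _ hx]
    exact Nat.le_of_ble_eq_true (List.all_eq_true.1 h1 _ (List.getElem_mem hx))
  have hblk : ∀ x : Fin 425, Data.blk.getD x.val 0 < 85 := fun x => by
    have hx : x.val < Data.blk.length := by rw [h5]; exact x.2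
    rw [List.getD_eq_getElem _ _ hx]
    exact Nat.le_of_ble_eq_true (List.all_eq_true.1 h4 _ (List.getElem_mem hx))
  let f : Fin 425 → Fin CfsgLib.Spor.HeInvol.data.n := fun x => ⟨HeData.orbit.getD x.val 0, horb x⟩
  let b : Fin 425 → Fin 85 := fun x => ⟨Data.blk.getD x.val 0, hblk x⟩
  have hf : Function.Injective f := fun x y e => by
    have hx : x.val < HeData.orbit.length := by rw [h3]; exact x.2
    have hy : y.val < HeData.orbit.length := by rw [h3]; exact y.2
    have e' := congrArg Fin.val e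
    simp only [f, List.getD_eq_getElem _ _ hx, List.getD_eq_getElem _ _ hy] at e'
    exact Fin.ext (h2.getElem_inj_iff.1 e')
  have hb : Function.Surjective b := fun i =>
    ⟨⟨Data.sec.getD i.val 0, (h6 i).1⟩, Fin.ext (h6 i).2⟩
  let s : Fin 7 → heSub := fun k => ⟨hgen k, Subgroup.subset_closure ⟨k, rfl⟩⟩
  let T : Fin 7 → Equiv.Perm (Fin 85) := fun k => Equiv.ofBijective _ (tab_bijective k)
  have key : ∀ k x, ∃ z, (CfsgLib.Spor.HeInvol.π.comp heSub.subtype) (s k) (f x) = f z ∧
      b z = T k (b x) := by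
    intro k x
    have := List.all_eq_true.1 (List.all_eq_true.1 img_check k.val (List.mem_range.2 k.2)) x.val
      (List.mem_range.2 x.2)
    simp only [imgChk, Bool.and_eq_true, Nat.blt_eq] at this
    obtain ⟨⟨hz, e1⟩, e2⟩ := this
    refine ⟨⟨_, hz⟩, Fin.ext ?_, Fin.ext (Nat.eq_of_beq_eq_true e2)⟩
    show ((CfsgLib.Spor.HeInvol.π (hgen k) (f x) : Fin _) : ℕ) = _
    rw [pi_hgen]
    exact Nat.eq_of_beq_eq_true e1
  have hS : Subgroup.closure (Set.range s) = ⊤ := by
    refine Subgroup.map_injective heSub.subtype_injective ?_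
    rw [MonoidHom.map_closure, ← MonoidHom.range_eq_map, Subgroup.range_subtype, ← Set.range_comp]
    rfl
  obtain ⟨σ, hσ⟩ := exists_block_hom (CfsgLib.Spor.HeInvol.π.comp heSub.subtype) hf b hb hS
    (by rintro _ ⟨k, rfl⟩; exact ⟨T k, key k⟩)
  exact exists_iso (card_heSub h).1 (card_heSub h).2 σ s fun k i => by
    rw [hσ (s k) (T k) (key k)]; rfl

end CfsgLib.CharsMore.HeSp44
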