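import Cfsg.Agent.Lib.CharsMore.HeSp44.He

/-!
# The subgroup given by words in the presentation
-/

set_option autoImplicit false

namespace CfsgLib.CharsMore.HeSp44

open Cfsg CfsgLib.PresCert CfsgLib.Spor.HeInvol

theorem mk_eq_gen (x : Cfsg.Spor.He.Gen) :
    PresentedGroup.mk (Cfsg.Spor.coxRelators Cfsg.Spor.He.edges ∪ {r | r ∈ Cfsg.Spor.He.extra}) (FreeGroup.of x) =
      CfsgLib.Spor.HeInvol.gen x := rfl

theorem statement (h : Bound) : ∃ (N : Subgroup (((Subgroup.closure ({Cfsg.Spor.He.a, Cfsg.Spor.He.c, Cfsg.Spor.He.d, Cfsg.Spor.He.e, Cfsg.Spor.He.f, (Cfsg.Spor.He.a * Cfsg.Spor.He.b) ^ 2, (Cfsg.Spor.He.b * Cfsg.Spor.He.c * Cfsg.Spor.He.d * Cfsg.Spor.He.e) ^ 7} : Set (FreeGroup Cfsg.Spor.He.Gen))).map (PresentedGroup.mk (Cfsg.Spor.coxRelators Cfsg.Spor.He.edges ∪ {r | r ∈ Cfsg.Spor.He.extra}))))) (K : Type) (_ : Field K) (_ : Fintype K), N.Normal ∧ N.index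 = 2 ∧ Fintype.card K = 4 ∧ Nonempty (N ≃* Matrix.symplecticGroup (Fin 2) K) := by
  suffices e : (Subgroup.closure ({Cfsg.Spor.He.a, Cfsg.Spor.He.c, Cfsg.Spor.He.d, Cfsg.Spor.He.e, Cfsg.Spor.He.f, (Cfsg.Spor.He.a * Cfsg.Spor.He.b) ^ 2, (Cfsg.Spor.He.b * Cfsg.Spor.He.c * Cfsg.Spor.He.d * Cfsg.Spor.He.e) ^ 7} : Set (FreeGroup Cfsg.Spor.He.Gen))).map (PresentedGroup.mk (Cfsg.Spor.coxRelators Cfsg.Spor.He.edges ∪ {r | r ∈ Cfsg.Spor.He.extra})) = heSub by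
    rw [e]
    exact main h
  have ha : ∀ x : Cfsg.Spor.He.Gen, (CfsgLib.Spor.HeInvol.gen x)⁻¹ = CfsgLib.Spor.HeInvol.gen x :=
    fun x => inv_eq_of_mul_eq_one_right (gen_sq x)
  have h5 : (CfsgLib.Spor.HeInvol.gen .a * CfsgLib.Spor.HeInvol.gen .b) ^ 2 = (hgen 5)⁻¹ := by
    simp [hgen, HeData.elts, CfsgLib.Spor.HeInvol.el, letter, mul_inv_rev, ha, pow_succ, mul_assoc]
  have h6 : (CfsgLib.Spor.HeInvol.gen .b * CfsgLib.Spor.HeInvol.gen .c * CfsgLib.Spor.HeInvol.gen .d *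
      CfsgLib.Spor.HeInvol.gen .e) ^ 7 = (hgen 6)⁻¹ := by
    simp [hgen, HeData.elts, CfsgLib.Spor.HeInvol.el, letter, mul_inv_rev, ha, pow_succ, mul_assoc]
  have hk : ∀ (k : Fin 7) (x : Cfsg.Spor.He.Gen), HeData.elts.getD k.val [] = [CfsgLib.Spor.HeInvol.idx x] →
      hgen k = CfsgLib.Spor.HeInvol.gen x := fun k x e => by
    rw [hgen, e, CfsgLib.Spor.HeInvol.el]
    cases x <;> simp [CfsgLib.Spor.HeInvol.idx, letter]
  rw [MonoidHom.map_closure, heSub]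
  refine le_antisymm ((Subgroup.closure_le _).2 ?_) ((Subgroup.closure_le _).2 ?_)
  · rintro _ ⟨w, hw, rfl⟩
    have mem : ∀ k, hgen k ∈ Subgroup.closure (Set.range hgen) := fun k => Subgroup.subset_closure ⟨k, rfl⟩
    simp only [Set.mem_insert_iff, Set.mem_singleton_iff] at hw
    rcases hw with rfl | rfl | rfl | rfl | rfl | rfl | rfl
    · show PresentedGroup.mk _ _ ∈ _
      rw [mk_eq_gen, ← hk 0 .a rfl]; exact mem _
    · show PresentedGroup.mk _ _ ∈ _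
      rw [mk_eq_gen, ← hk 1 .c rfl]; exact mem _
    · show PresentedGroup.mk _ _ ∈ _
      rw [mk_eq_gen, ← hk 2 .d rfl]; exact mem _
    · show PresentedGroup.mk _ _ ∈ _
      rw [mk_eq_gen, ← hk 3 .e rfl]; exact mem _
    · show PresentedGroup.mk _ _ ∈ _
      rw [mk_eq_gen, ← hk 4 .f rfl]; exact mem _
    · simp only [map_pow, map_mul, mk_eq_gen, h5]; exact inv_mem (mem _)
    · simp only [map_pow, map_mul, mk_eq_gen, h6]; exact inv_mem (mem _)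
  · rintro _ ⟨k, rfl⟩
    have mem : ∀ w ∈ ({Cfsg.Spor.He.a, Cfsg.Spor.He.c, Cfsg.Spor.He.d, Cfsg.Spor.He.e, Cfsg.Spor.He.f, (Cfsg.Spor.He.a * Cfsg.Spor.He.b) ^ 2, (Cfsg.Spor.He.b * Cfsg.Spor.He.c * Cfsg.Spor.He.d * Cfsg.Spor.He.e) ^ 7} : Set (FreeGroup Cfsg.Spor.He.Gen)),
        PresentedGroup.mk (Cfsg.Spor.coxRelators Cfsg.Spor.He.edges ∪ {r | r ∈ Cfsg.Spor.He.extra}) w ∈
          Subgroup.closure ((PresentedGroup.mk (Cfsg.Spor.coxRelators Cfsg.Spor.He.edges ∪ {r | r ∈ Cfsg.Spor.He.extra})) '' ({Cfsg.Spor.He.a, Cfsg.Spor.He.c, Cfsg.Spor.He.d, Cfsg.Spor.He.e, Cfsg.Spor.He.f, (Cfsg.Spor.He.a * Cfsg.Spor.He.b) ^ 2, (Cfsg.Spor.He.b * Cfsg.Spor.He.c * Cfsg.Spor.He.d * Cfsg.Spor.He.e) ^ 7} : Set (FreeGroup Cfsg.Spor.He.Gen))) :=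
      fun w hw => Subgroup.subset_closure ⟨w, hw, rfl⟩
    fin_cases k
    · rw [hk _ .a rfl, ← mk_eq_gen]; exact mem _ (by simp)
    · rw [hk _ .c rfl, ← mk_eq_gen]; exact mem _ (by simp)
    · rw [hk _ .d rfl, ← mk_eq_gen]; exact mem _ (by simp)
    · rw [hk _ .e rfl, ← mk_eq_gen]; exact mem _ (by simp)
    · rw [hk _ .f rfl, ← mk_eq_gen]; exact mem _ (by simp)
    · have := inv_mem (mem ((Cfsg.Spor.He.a * Cfsg.Spor.He.b) ^ 2) (by simp))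
      simp only [map_pow, map_mul, mk_eq_gen, h5, inv_inv] at this
      exact this
    · have := inv_mem (mem ((Cfsg.Spor.He.b * Cfsg.Spor.He.c * Cfsg.Spor.He.d * Cfsg.Spor.He.e) ^ 7) (by simp))
      simp only [map_pow, map_mul, mk_eq_gen, h6, inv_inv] at this
      exact this

end CfsgLib.CharsMore.HeSp44
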