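import Mathlib
import Cfsg.Prelude.Def_ClassicalGeometry
import Cfsg.Agent.Lib.CharsMore.HeSp44.Data

/-!
# The 85 points of symplectic four-space over four elements

Scalars are numbered `0, 1, 2, 3` for `0, 1, ω, ω + 1`, vectors are numbered in base four.
-/

set_option autoImplicit false
set_option maxRecDepth 100000

namespace CfsgLib.CharsMore.HeSp44

open Matrix

/-- The field with four elements. -/
abbrev K : Type := QuadraticAlgebra (ZMod 2) 1 1

instance irr_two : Fact (∀ r : ZMod 2, r ^ 2 ≠ (1 : ZMod 2) + 1 * r) := ⟨by decide⟩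

instance fintypeK : Fintype K := Fintype.ofEquiv _ (QuadraticAlgebra.equivProd (1 : ZMod 2) 1).symm

theorem card_K : Fintype.card K = 4 := by decide +kernel

/-- a bit as a scalar -/
def bitv (b : Bool) : ZMod 2 := if b then 1 else 0

/-- the scalar with a given number -/
def el (n : ℕ) : K := ⟨bitv (n.testBit 0), bitv (n.testBit 1)⟩

/-- the number of a scalar -/
def code (z : K) : ℕ := z.re.val + 2 * z.im.val

/-- the coordinates -/
abbrev V : Type := Fin 2 ⊕ Fin 2

/-- the vector with four given coordinates -/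
def mk (a b c d : ℕ) : V → K := Sum.elim ![el a, el b] ![el c, el d]

/-- the position of a coordinate -/
def pos : V → ℕ := Sum.elim ![0, 1] ![2, 3]

/-- a vector from its number -/
def ofNum (n : ℕ) : V → K := fun j => el (n / 4 ^ pos j % 4)

/-- the chosen vector of a point -/
def rep (i : Fin 85) : V → K := ofNum (Data.pts.getD i.val 0)

/-- the number of a vector -/
def num (v : V → K) : ℕ :=
  code (v (Sum.inl 0)) + 4 * code (v (Sum.inl 1)) + 16 * code (v (Sum.inr 0)) + 64 * code (v (Sum.inr 1))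

/-- the point of a vector -/
def ptOf (v : V → K) : Fin 85 := ⟨Data.idx.getD (num v) 0 % 85, Nat.mod_lt _ (by norm_num)⟩

theorem el_code : ∀ z : K, el (code z) = z ∧ code z < 4 := by decide +kernel

theorem el_surj (z : K) : ∃ n : Fin 4, el n = z := ⟨⟨code z, (el_code z).2⟩, (el_code z).1⟩

theorem mk_surj (v : V → K) : ∃ a b c d : Fin 4, v = mk a b c d := by
  obtain ⟨a, ha⟩ := el_surj (v (Sum.inl 0))
  obtain ⟨b, hb⟩ := el_surj (v (Sum.inl 1))
  obtain ⟨c, hc⟩ := el_surj (v (Sum.inr 0))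
  obtain ⟨d, hd⟩ := el_surj (v (Sum.inr 1))
  refine ⟨a, b, c, d, funext fun j => ?_⟩
  rcases j with j | j <;> fin_cases j <;> simp [mk, ha, hb, hc, hd]

theorem cover_check : ∀ a b c d : Fin 4, (a = 0 ∧ b = 0 ∧ c = 0 ∧ d = 0) ∨
    ∃ s : Fin 4, el s ≠ 0 ∧ ∀ j, mk a b c d j = el s * rep (ptOf (mk a b c d)) j := by
  decide +kernel

theorem rep_check : ∀ i : Fin 85, (∃ j, rep i j ≠ 0) ∧ ∀ s : Fin 4, el s ≠ 0 →
    ptOf (fun j => el s * rep i j) = i := by
  decide +kernel

theorem rep_ne (i : Fin 85) : rep i ≠ 0 := fun h => by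
  obtain ⟨j, hj⟩ := (rep_check i).1
  exact hj (congrFun h j)

theorem cover {v : V → K} (hv : v ≠ 0) : ∃ s : K, s ≠ 0 ∧ v = s • rep (ptOf v) := by
  obtain ⟨a, b, c, d, rfl⟩ := mk_surj v
  rcases cover_check a b c d with ⟨rfl, rfl, rfl, rfl⟩ | ⟨s, hs, h⟩
  · exact absurd (funext fun j => by rcases j with j | j <;> fin_cases j <;> rfl) hv
  · exact ⟨el s, hs, funext fun j => h j⟩

theorem ptOf_smul_rep {s : K} (hs : s ≠ 0) (i : Fin 85) : ptOf (s • rep i) = i := by
  obtain ⟨n, rfl⟩ := el_surj s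
  exact (rep_check i).2 n hs

theorem ptOf_smul {s : K} (hs : s ≠ 0) {v : V → K} (hv : v ≠ 0) : ptOf (s • v) = ptOf v := by
  obtain ⟨t, ht, e⟩ := cover hv
  conv_lhs => rw [e, smul_smul]
  rw [ptOf_smul_rep (mul_ne_zero hs ht)]

/-- the symplectic group -/
abbrev Sp : Submonoid (Matrix V V K) := Matrix.symplecticGroup (Fin 2) K

theorem mulVec_ne (g : Sp) {v : V → K} (hv : v ≠ 0) : (g : Matrix V V K) *ᵥ v ≠ 0 := by
  intro h
  refine hv ?_
  have e : ((g⁻¹ : Sp) : Matrix V V K) * (g : Matrix V V K) = 1 := by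
    rw [← Submonoid.coe_mul, inv_mul_cancel]; rfl
  rw [← Matrix.one_mulVec v, ← e, ← Matrix.mulVec_mulVec, h, Matrix.mulVec_zero]

/-- the permutation of the points given by a symplectic matrix -/
def linePerm : Sp →* Equiv.Perm (Fin 85) :=
  have key : ∀ (g h : Sp) (i : Fin 85), ptOf ((g : Matrix V V K) *ᵥ rep (ptOf ((h : Matrix V V K) *ᵥ rep i))) =
      ptOf (((g * h : Sp) : Matrix V V K) *ᵥ rep i) := by
    intro g h i
    obtain ⟨s, hs, e⟩ := cover (mulVec_ne h (rep_ne i))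
    rw [Submonoid.coe_mul, ← Matrix.mulVec_mulVec]
    conv_rhs => rw [e, Matrix.mulVec_smul]
    rw [ptOf_smul hs (mulVec_ne g (rep_ne _))]
  have one : ∀ i : Fin 85, ptOf (((1 : Sp) : Matrix V V K) *ᵥ rep i) = i := fun i => by
    show ptOf ((1 : Matrix V V K) *ᵥ rep i) = i
    rw [Matrix.one_mulVec, ← one_smul K (rep i), ptOf_smul_rep one_ne_zero]
  { toFun := fun g =>
      ⟨fun i => ptOf ((g : Matrix V V K) *ᵥ rep i), fun i => ptOf (((g⁻¹ : Sp) : Matrix V V K) *ᵥ rep i),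
        fun i => (key g⁻¹ g i).trans (by rw [inv_mul_cancel, one]), fun i => (key g g⁻¹ i).trans (by rw [mul_inv_cancel, one])⟩
    map_one' := Equiv.ext one
    map_mul' := fun g h => Equiv.ext fun i => (key g h i).symm }

theorem linePerm_apply (g : Sp) (i : Fin 85) : linePerm g i = ptOf ((g : Matrix V V K) *ᵥ rep i) := rfl

/-- the five frame points -/
def frame : List (Fin 85) :=
  [ptOf (mk 1 0 0 0), ptOf (mk 0 1 0 0), ptOf (mk 0 0 1 0), ptOf (mk 0 0 0 1), ptOf (mk 1 1 1 1)]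

theorem sq_eq_one : ∀ z : K, z * z = 1 → z = 1 := by decide +kernel

theorem eq_one_of_frame (g : Sp) (h : ∀ i ∈ frame, linePerm g i = i) : g = 1 := by
  have key : ∀ v : V → K, v ≠ 0 → ptOf v ∈ frame → ∃ μ : K, (g : Matrix V V K) *ᵥ v = μ • v := by
    intro v hv hm
    obtain ⟨s, hs, e⟩ := cover hv
    obtain ⟨t, ht, e'⟩ := cover (mulVec_ne g (rep_ne (ptOf v)))
    rw [← linePerm_apply, h _ hm] at e'
    exact ⟨t, by rw [e, Matrix.mulVec_smul, e', smul_comm]⟩
  have nz : ∀ a b c d : Fin 4, ¬(a = 0 ∧ b = 0 ∧ c = 0 ∧ d = 0) → mk a b c d ≠ 0 := by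
    intro a b c d hne e
    refine hne ?_
    have hz : ∀ n : Fin 4, el n = 0 → n = 0 := by decide +kernel
    exact ⟨hz _ (congrFun e (Sum.inl 0)), hz _ (congrFun e (Sum.inl 1)), hz _ (congrFun e (Sum.inr 0)),
      hz _ (congrFun e (Sum.inr 1))⟩
  obtain ⟨a, ha⟩ := key (mk 1 0 0 0) (nz 1 0 0 0 (by decide)) (by simp [frame])
  obtain ⟨b, hb⟩ := key (mk 0 1 0 0) (nz 0 1 0 0 (by decide)) (by simp [frame])
  obtain ⟨c, hc⟩ := key (mk 0 0 1 0) (nz 0 0 1 0 (by decide)) (by simp [frame])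
  obtain ⟨d, hd⟩ := key (mk 0 0 0 1) (nz 0 0 0 1 (by decide)) (by simp [frame])
  obtain ⟨μ, hμ⟩ := key (mk 1 1 1 1) (nz 1 1 1 1 (by decide)) (by simp [frame])
  have hsum : mk 1 1 1 1 = mk 1 0 0 0 + mk 0 1 0 0 + mk 0 0 1 0 + mk 0 0 0 1 := by decide +kernel
  have e0 : el 0 = 0 := by decide +kernel
  have e1 : el 1 = 1 := by decide +kernel
  rw [hsum, Matrix.mulVec_add, Matrix.mulVec_add, Matrix.mulVec_add, ha, hb, hc, hd] at hμ
  have q1 := congrFun hμ (Sum.inl 0)
  have q2 := congrFun hμ (Sum.inl 1)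
  have q3 := congrFun hμ (Sum.inr 0)
  have q4 := congrFun hμ (Sum.inr 1)
  simp [mk, e0, e1] at q1 q2 q3 q4
  obtain rfl : b = a := q2.trans q1.symm
  obtain rfl : c = b := q3.trans q1.symm
  obtain rfl : d = c := q4.trans q1.symm
  have hg : (g : Matrix V V K) = d • (1 : Matrix V V K) := by
    refine Matrix.ext_of_mulVec_single fun j => ?_
    have hs : ∀ j : V, Pi.single j (1 : K) = mk 1 0 0 0 ∨ Pi.single j (1 : K) = mk 0 1 0 0 ∨
        Pi.single j (1 : K) = mk 0 0 1 0 ∨ Pi.single j (1 : K) = mk 0 0 0 1 := by decide +kernel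
    rw [Matrix.smul_mulVec, Matrix.one_mulVec]
    rcases hs j with e | e | e | e <;> rw [e] <;> assumption
  have hJ := SymplecticGroup.mem_iff.1 g.2
  rw [hg, Matrix.transpose_smul, Matrix.transpose_one, Matrix.smul_mul, Matrix.one_mul, Matrix.smul_mul,
    Matrix.mul_smul, Matrix.mul_one, smul_smul] at hJ
  have q := congrFun (congrFun hJ (Sum.inr 0)) (Sum.inl 0)
  simp [Matrix.J] at q
  refine Subtype.ext ?_
  rw [hg, sq_eq_one d q, one_smul]
  rfl

theorem linePerm_injective : Function.Injective linePerm := by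
  rw [← MonoidHom.ker_eq_bot_iff, Subgroup.eq_bot_iff_forall]
  exact fun g hg => eq_one_of_frame g fun i _ => by rw [MonoidHom.mem_ker.1 hg]; rfl

/-- the field automorphism on vectors -/
def frobV (v : V → K) : V → K := fun j => v j * v j

theorem frob_invol : ∀ i : Fin 85, ptOf (frobV (rep (ptOf (frobV (rep i))))) = i := by decide +kernel

/-- the permutation of the points given by the field automorphism -/
def frobPerm : Equiv.Perm (Fin 85) :=
  ⟨fun i => ptOf (frobV (rep i)), fun i => ptOf (frobV (rep i)), frob_invol, frob_invol⟩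

theorem frob_frame : (∀ i ∈ frame, ptOf (frobV (rep i)) = i) ∧ ∃ i, ptOf (frobV (rep i)) ≠ i := by
  decide +kernel

theorem frobPerm_notMem : frobPerm ∉ linePerm.range := by
  rintro ⟨g, hg⟩
  obtain ⟨hf, i, hi⟩ := frob_frame
  have h1 : g = 1 := eq_one_of_frame g fun j hj => by rw [hg]; exact hf j hj
  rw [h1, map_one] at hg
  exact hi (congrArg (fun σ : Equiv.Perm (Fin 85) => σ i) hg).symm

end CfsgLib.CharsMore.HeSp44
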